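import Mathlib

/-!
# Traces of elements of order `r ∣ q² - q + 1` in `SU₃(q)` (helper4)

`exists_trace_eigen`: for a Zsigmondy prime `r` of `p ^ (6 n) - 1` there is `τ ∈ F` (`|F| = q²`,
`q = p ^ n`) such that every `3 × 3` matrix `M` over `F` with `det M = 1`, `tr M = τ`,
`tr (adj M) = τ ^ q` has an eigenvalue of order `r` in the algebraic closure; consequently
`M ^ m` scalar forces `r ∣ m`.
-/

set_option autoImplicit false

namespace Cfsg.Agent.Lib.H4.U3Eigen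

open Matrix

/-- the characteristic polynomial of a `3 × 3` matrix, evaluated -/
theorem det_smul_one_sub {K : Type*} [CommRing K] (M : Matrix (Fin 3) (Fin 3) K) (l : K) :
    (l • (1 : Matrix (Fin 3) (Fin 3) K) - M).det =
      l ^ 3 - M.trace * l ^ 2 + M.adjugate.trace * l - M.det := by
  rw [det_fin_three, det_fin_three, trace_fin_three, trace_fin_three, adjugate_fin_three]
  simp [Matrix.sub_apply, Matrix.smul_apply]
  ring

/-- a root of the characteristic polynomial is an eigenvalue -/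
theorem exists_eigenvector {K : Type*} [Field K] (M : Matrix (Fin 3) (Fin 3) K) (l : K)
    (h : l ^ 3 - M.trace * l ^ 2 + M.adjugate.trace * l - M.det = 0) :
    ∃ w : Fin 3 → K, w ≠ 0 ∧ M *ᵥ w = l • w := by
  have hdet : (l • (1 : Matrix (Fin 3) (Fin 3) K) - M).det = 0 := by
    rw [det_smul_one_sub, h]
  obtain ⟨w, hw0, hw⟩ := Matrix.exists_mulVec_eq_zero_iff.2 hdet
  refine ⟨w, hw0, ?_⟩
  rw [Matrix.sub_mulVec, Matrix.smul_mulVec, Matrix.one_mulVec, sub_eq_zero] at hw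
  exact hw.symm

theorem pow_mulVec_eigen {K : Type*} [Field K] (M : Matrix (Fin 3) (Fin 3) K) (l : K)
    (w : Fin 3 → K) (hw : M *ᵥ w = l • w) (m : ℕ) : (M ^ m) *ᵥ w = l ^ m • w := by
  induction m with
  | zero => simp
  | succ k ih =>
    rw [pow_succ, ← Matrix.mulVec_mulVec, hw, Matrix.mulVec_smul, ih, smul_smul, pow_succ, mul_comm]

/-- elements of an extension fixed by `x ↦ x ^ |F|` lie in `F` -/
theorem mem_range_of_pow_card {F K : Type*} [Field F] [Fintype F] [Field K] [Algebra F K] (x : K)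
    (hx : x ^ Fintype.card F = x) : ∃ y : F, algebraMap F K y = x := by
  classical
  by_contra hne
  push Not at hne
  set N := Fintype.card F with hNdef
  have hN : 1 < N := Fintype.one_lt_card
  set P : Polynomial K := Polynomial.X ^ N - Polynomial.X with hPdef
  have hP0 : P ≠ 0 := FiniteField.X_pow_card_sub_X_ne_zero K hN
  have hdeg : P.natDegree = N := FiniteField.X_pow_card_sub_X_natDegree_eq K hN
  have hroot : ∀ z : K, z ^ N = z → z ∈ P.roots.toFinset := by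
    intro z hz
    rw [Multiset.mem_toFinset, Polynomial.mem_roots hP0]
    simp [hPdef, hz]
  set S : Finset K := insert x (Finset.univ.image (algebraMap F K)) with hSdef
  have hS : S ⊆ P.roots.toFinset := by
    intro z hz
    rcases Finset.mem_insert.1 hz with rfl | hz
    · exact hroot _ hx
    · obtain ⟨y, -, rfl⟩ := Finset.mem_image.1 hz
      apply hroot
      rw [← map_pow, hNdef, FiniteField.pow_card]
  have hcard : S.card = N + 1 := by
    rw [hSdef, Finset.card_insert_of_notMem,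
      Finset.card_image_of_injective _ (algebraMap F K).injective, Finset.card_univ]
    intro h
    obtain ⟨y, -, hy⟩ := Finset.mem_image.1 h
    exact hne y hy
  have h1 := Finset.card_le_card hS
  have h2 : P.roots.toFinset.card ≤ N :=
    (Multiset.toFinset_card_le _).trans ((Polynomial.card_roots' P).trans hdeg.le)
  omega

theorem charP_of_card {F : Type*} [Field F] [Fintype F] {p k : ℕ} (hp : p.Prime)
    (hF : Fintype.card F = p ^ k) : CharP F p := by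
  obtain ⟨c, hc⟩ := CharP.exists F
  have := hc
  obtain ⟨j, hcp, hj⟩ := FiniteField.card F c
  have h1 : c ∣ p ^ k := by
    rw [← hF, hj]
    exact dvd_pow_self c j.ne_zero
  have h2 : c ∣ p := hcp.dvd_of_dvd_pow h1
  have h3 : c = p := (Nat.prime_dvd_prime_iff_eq hcp hp).1 h2
  rw [← h3]
  exact hc

/-- arithmetic: a Zsigmondy prime of `p ^ (6 n) - 1` divides `q² - q + 1` -/
theorem dvd_E {p n q r : ℕ} (hp : p.Prime) (hq : q = p ^ n) (hn : 1 ≤ n) (hr : r.Prime)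
    (hrdvd : r ∣ p ^ (6 * n) - 1) (hprim : ∀ k, 0 < k → k < 6 * n → ¬ r ∣ p ^ k - 1) :
    r ∣ q * (q - 1) + 1 := by
  have hq1 : 1 ≤ q := by rw [hq]; exact Nat.one_le_pow _ _ hp.pos
  have h6 : p ^ (6 * n) = q ^ 6 := by rw [hq, ← pow_mul, mul_comm]
  have h3 : p ^ (3 * n) = q ^ 3 := by rw [hq, ← pow_mul, mul_comm]
  have h2 : p ^ (2 * n) = q ^ 2 := by rw [hq, ← pow_mul, mul_comm]
  have e1 : q ^ 6 - 1 = (q ^ 3 - 1) * (q ^ 3 + 1) := by
    have ha : 1 ≤ q ^ 3 := Nat.one_le_pow _ _ hq1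
    have hb : 1 ≤ q ^ 6 := Nat.one_le_pow _ _ hq1
    zify [ha, hb]
    ring
  have e2 : q ^ 3 + 1 = (q + 1) * (q * (q - 1) + 1) := by
    zify [hq1]
    ring
  have e3 : q ^ 2 - 1 = (q + 1) * (q - 1) := by
    have ha : 1 ≤ q ^ 2 := Nat.one_le_pow _ _ hq1
    zify [ha, hq1]
    ring
  rw [h6, e1] at hrdvd
  rcases (Nat.Prime.dvd_mul hr).1 hrdvd with h | h
  · exfalso
    apply hprim (3 * n) (by omega) (by omega)
    rw [h3]; exact h
  · rw [e2] at h
    rcases (Nat.Prime.dvd_mul hr).1 h with h' | h'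
    · exfalso
      apply hprim (2 * n) (by omega) (by omega)
      rw [h2, e3]
      exact Dvd.dvd.mul_right h' _
    · exact h'

theorem r_ne_three {p n r : ℕ} (hp : p.Prime) (hn : 1 ≤ n) (hrp : r ≠ p)
    (hprim : ∀ k, 0 < k → k < 6 * n → ¬ r ∣ p ^ k - 1) : r ≠ 3 := by
  rintro rfl
  apply hprim 2 (by omega) (by omega)
  have h3 : ¬ 3 ∣ p := by
    intro h
    exact hrp ((Nat.prime_dvd_prime_iff_eq Nat.prime_three hp).1 h)
  have hmod : p % 3 = 1 ∨ p % 3 = 2 := by omega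
  have : p ^ 2 % 3 = 1 := by
    rw [Nat.pow_mod]
    rcases hmod with h | h <;> rw [h]
  omega





/-- the algebraic identities for `ζ` with `ζ ^ (q² - q + 1) = 1` -/
theorem zeta_rels {K : Type*} [Field K] (ζ : K) (q : ℕ) (hq1 : 1 ≤ q)
    (hζ : ζ ^ (q * (q - 1) + 1) = 1) :
    ζ * ζ ^ (q ^ 2) = ζ ^ q ∧ ζ ^ (q ^ 3) * ζ = 1 ∧ ζ ^ (q ^ 4) * ζ ^ q = 1 := by
  have e1 : 1 + q ^ 2 = (q * (q - 1) + 1) + q := by
    obtain ⟨s, rfl⟩ : ∃ s, q = s + 1 := ⟨q - 1, by omega⟩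
    simp only [Nat.add_sub_cancel]
    ring
  have e2 : q ^ 3 + 1 = (q * (q - 1) + 1) * (q + 1) := by
    obtain ⟨s, rfl⟩ : ∃ s, q = s + 1 := ⟨q - 1, by omega⟩
    simp only [Nat.add_sub_cancel]
    ring
  have h2 : ζ ^ (q ^ 3) * ζ = 1 := by
    rw [← pow_succ, e2, pow_mul, hζ, one_pow]
  refine ⟨?_, h2, ?_⟩
  · rw [← pow_succ', add_comm, e1, pow_add, hζ, one_mul]
  · have : ζ ^ (q ^ 4) * ζ ^ q = (ζ ^ (q ^ 3) * ζ) ^ q := by
      rw [mul_pow, ← pow_mul]
      congr 2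
    rw [this, h2, one_pow]

theorem root_identity {K : Type*} [Field K] (a B : K) (ha : a ≠ 0) (hB : B ≠ 0) :
    a ^ 3 - (a + (a * B)⁻¹ + B) * a ^ 2 + (a * B + B⁻¹ + a⁻¹) * a - 1 = 0 := by
  field_simp
  ring

theorem exists_trace_eigen {F : Type*} [Field F] [Fintype F] {p n q r : ℕ} (hp : p.Prime)
    (hq : q = p ^ n) (hn : 1 ≤ n) (hF : Fintype.card F = q ^ 2) (hr : r.Prime) (hrp : r ≠ p)
    (hrdvd : r ∣ p ^ (6 * n) - 1) (hprim : ∀ k, 0 < k → k < 6 * n → ¬ r ∣ p ^ k - 1) :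
    ∃ τ : F, ∀ M : Matrix (Fin 3) (Fin 3) F, M.det = 1 → M.trace = τ →
      M.adjugate.trace = τ ^ q → ∀ (m : ℕ) (c : F), M ^ m = c • 1 → r ∣ m := by
  classical
  have hq1 : 1 ≤ q := by rw [hq]; exact Nat.one_le_pow _ _ hp.pos
  have hF' : Fintype.card F = p ^ (2 * n) := by rw [hF, hq, ← pow_mul, mul_comm]
  have hcF : CharP F p := charP_of_card hp hF'
  let K := AlgebraicClosure F
  have hcK : CharP K p := charP_of_injective_algebraMap (algebraMap F K).injective p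
  have : Fact p.Prime := ⟨hp⟩
  have hrF : NeZero (r : F) := by
    refine ⟨?_⟩
    rw [Ne, CharP.cast_eq_zero_iff F p r]
    intro h
    exact hrp ((Nat.prime_dvd_prime_iff_eq hp hr).1 h).symm
  obtain ⟨ζ, hζ⟩ := HasEnoughRootsOfUnity.exists_primitiveRoot K r
  have hζE : ζ ^ (q * (q - 1) + 1) = 1 := by
    obtain ⟨t, ht⟩ := dvd_E hp hq hn hr hrdvd hprim
    rw [ht, pow_mul, hζ.pow_eq_one, one_pow]
  obtain ⟨r1, r2, r3⟩ := zeta_rels ζ q hq1 hζE
  have hζ0 : ζ ≠ 0 := hζ.ne_zero hr.ne_zero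
  -- Frobenius
  have frob : ∀ (k : ℕ) (x y z : K), (x + y + z) ^ (p ^ k) = x ^ p ^ k + y ^ p ^ k + z ^ p ^ k := by
    intro k x y z
    rw [add_pow_expChar_pow, add_pow_expChar_pow]
  set τ' : K := ζ + (ζ ^ q)⁻¹ + ζ ^ (q ^ 2) with hτ'
  have hq2 : q ^ 2 = p ^ (2 * n) := by rw [hq, ← pow_mul, mul_comm]
  have hfix : τ' ^ Fintype.card F = τ' := by
    rw [hF, hτ', hq2, frob, ← hq2, inv_pow, ← pow_mul, ← pow_mul,
      show q * q ^ 2 = q ^ 3 by ring, show q ^ 2 * q ^ 2 = q ^ 4 by ring]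
    have h1 : (ζ ^ q ^ 3)⁻¹ = ζ := by
      exact (eq_inv_of_mul_eq_one_right r2).symm
    have h2 : ζ ^ q ^ 4 = (ζ ^ q)⁻¹ := eq_inv_of_mul_eq_one_left r3
    rw [h1, h2]
    ring
  obtain ⟨τ, hτ⟩ := mem_range_of_pow_card (F := F) τ' hfix
  have hτq : algebraMap F K (τ ^ q) = ζ ^ q + (ζ ^ (q ^ 2))⁻¹ + ζ⁻¹ := by
    rw [map_pow, hτ, hτ', hq, frob, ← hq, inv_pow, ← pow_mul, ← pow_mul,
      show q * q = q ^ 2 by ring, show q ^ 2 * q = q ^ 3 by ring]
    have h1 : ζ ^ q ^ 3 = ζ⁻¹ := eq_inv_of_mul_eq_one_left r2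
    rw [h1]
  have h3 := r_ne_three hp hn hrp hprim
  refine ⟨τ, ?_⟩
  intro M hdet htr hadj m c hMm
  set f : F →+* K := algebraMap F K with hf
  set MK : Matrix (Fin 3) (Fin 3) K := f.mapMatrix M with hMK
  have hMKtr : MK.trace = τ' := by
    rw [hMK, ← hτ, ← htr]
    simp [Matrix.trace, RingHom.mapMatrix_apply]
  have hMKadj : MK.adjugate.trace = ζ ^ q + (ζ ^ (q ^ 2))⁻¹ + ζ⁻¹ := by
    rw [hMK, ← RingHom.map_adjugate, ← hτq, ← hadj]
    simp [Matrix.trace, RingHom.mapMatrix_apply]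
  have hMKdet : MK.det = 1 := by
    rw [hMK, ← RingHom.map_det, hdet, map_one]
  have hq2ne : ζ ^ q ^ 2 ≠ 0 := pow_ne_zero _ hζ0
  have hqne : ζ ^ q ≠ 0 := pow_ne_zero _ hζ0
  have hroot : ζ ^ 3 - MK.trace * ζ ^ 2 + MK.adjugate.trace * ζ - MK.det = 0 := by
    rw [hMKtr, hMKadj, hMKdet, hτ', ← r1]
    exact root_identity ζ (ζ ^ q ^ 2) hζ0 hq2ne
  obtain ⟨w, hw0, hw⟩ := exists_eigenvector MK ζ hroot
  have hpow := pow_mulVec_eigen MK ζ w hw m
  have hMKm : MK ^ m = (f c) • (1 : Matrix (Fin 3) (Fin 3) K) := by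
    rw [hMK, ← map_pow, hMm]
    ext i j
    simp [RingHom.mapMatrix_apply, Matrix.one_apply]
    split_ifs <;> simp
  rw [hMKm, Matrix.smul_mulVec, Matrix.one_mulVec] at hpow
  have hc : f c = ζ ^ m := by
    have h0 : (f c - ζ ^ m) • w = 0 := by rw [sub_smul, hpow, sub_self]
    rcases smul_eq_zero.1 h0 with h | h
    · exact sub_eq_zero.1 h
    · exact absurd h hw0
  have hc3 : c ^ 3 = 1 := by
    have h1 : (M ^ m).det = 1 := by rw [Matrix.det_pow, hdet, one_pow]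
    rw [hMm, Matrix.det_smul, Matrix.det_one, mul_one] at h1
    simpa using h1
  have h3m : ζ ^ (m * 3) = 1 := by
    rw [pow_mul, ← hc, ← map_pow, hc3, map_one]
  have hdvd : r ∣ m * 3 := hζ.dvd_of_pow_eq_one _ h3m
  have hcop : Nat.Coprime r 3 := (Nat.coprime_primes hr Nat.prime_three).2 h3
  exact hcop.dvd_of_dvd_mul_right hdvd

end Cfsg.Agent.Lib.H4.U3Eigen
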